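import Mathlib

set_option linter.unusedSectionVars false
set_option linter.unusedVariables false
set_option linter.unusedSimpArgs false
set_option autoImplicit false
set_option linter.style.haveILetI false
set_option maxHeartbeats 400000

universe v v' u u'

namespace Groth.Agent.Helper6.Pic

open CategoryTheory MonoidalCategory

set_option genSizeOfSpec false in
set_option genInjectivity false in
/-- formal objects of the free Picard category on `A` -/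
inductive PObj (A : Type u) : Type u
  | of : A → PObj A
  | unit : PObj A
  | tensor : PObj A → PObj A → PObj A
  | inv : PObj A → PObj A

variable {A : Type u} [Category.{v} A] [MonoidalCategory A] [SymmetricCategory A]

/-- formal morphisms of the free Picard category on `A` -/
inductive PHom : PObj A → PObj A → Type (max u v)
  | id (X : PObj A) : PHom X X
  | α_hom (X Y Z : PObj A) : PHom ((X.tensor Y).tensor Z) (X.tensor (Y.tensor Z))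
  | α_inv (X Y Z : PObj A) : PHom (X.tensor (Y.tensor Z)) ((X.tensor Y).tensor Z)
  | l_hom (X : PObj A) : PHom (PObj.unit.tensor X) X
  | l_inv (X : PObj A) : PHom X (PObj.unit.tensor X)
  | ρ_hom (X : PObj A) : PHom (X.tensor PObj.unit) X
  | ρ_inv (X : PObj A) : PHom X (X.tensor PObj.unit)
  | β (X Y : PObj A) : PHom (X.tensor Y) (Y.tensor X)
  | comp {X Y Z : PObj A} (f : PHom X Y) (g : PHom Y Z) : PHom X Z
  | whiskerLeft (X : PObj A) {Y₁ Y₂ : PObj A} (f : PHom Y₁ Y₂) :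
      PHom (X.tensor Y₁) (X.tensor Y₂)
  | whiskerRight {X₁ X₂ : PObj A} (f : PHom X₁ X₂) (Y : PObj A) :
      PHom (X₁.tensor Y) (X₂.tensor Y)
  | tensor {W X Y Z : PObj A} (f : PHom W Y) (g : PHom X Z) : PHom (W.tensor X) (Y.tensor Z)
  | ofHom {a b : A} (f : a ⟶ b) : PHom (PObj.of a) (PObj.of b)
  | μ (a b : A) : PHom ((PObj.of a).tensor (PObj.of b)) (PObj.of (a ⊗ b))
  | μ_inv (a b : A) : PHom (PObj.of (a ⊗ b)) ((PObj.of a).tensor (PObj.of b))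
  | ε : PHom PObj.unit (PObj.of (𝟙_ A))
  | ε_inv : PHom (PObj.of (𝟙_ A)) PObj.unit
  | η (X : PObj A) : PHom PObj.unit (X.tensor X.inv)
  | η_inv (X : PObj A) : PHom (X.tensor X.inv) PObj.unit

local infixr:10 " ⟶ᵖ " => PHom

open PHom in
/-- the relations of the free Picard category -/
inductive PRel : ∀ {X Y : PObj A}, (X ⟶ᵖ Y) → (X ⟶ᵖ Y) → Prop
  | refl {X Y} (f : X ⟶ᵖ Y) : PRel f f
  | symm {X Y} (f g : X ⟶ᵖ Y) : PRel f g → PRel g f
  | trans {X Y} {f g h : X ⟶ᵖ Y} : PRel f g → PRel g h → PRel f h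
  | comp {X Y Z} {f f' : X ⟶ᵖ Y} {g g' : Y ⟶ᵖ Z} :
      PRel f f' → PRel g g' → PRel (f.comp g) (f'.comp g')
  | whiskerLeft (X) {Y Z} (f f' : Y ⟶ᵖ Z) :
      PRel f f' → PRel (f.whiskerLeft X) (f'.whiskerLeft X)
  | whiskerRight {Y Z} (f f' : Y ⟶ᵖ Z) (X) :
      PRel f f' → PRel (f.whiskerRight X) (f'.whiskerRight X)
  | tensor {W X Y Z} {f f' : W ⟶ᵖ X} {g g' : Y ⟶ᵖ Z} :
      PRel f f' → PRel g g' → PRel (f.tensor g) (f'.tensor g')
  | tensorHom_def {X₁ Y₁ X₂ Y₂} (f : X₁ ⟶ᵖ Y₁) (g : X₂ ⟶ᵖ Y₂) :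
      PRel (f.tensor g) ((f.whiskerRight X₂).comp (g.whiskerLeft Y₁))
  | comp_id {X Y} (f : X ⟶ᵖ Y) : PRel (f.comp (PHom.id _)) f
  | id_comp {X Y} (f : X ⟶ᵖ Y) : PRel ((PHom.id _).comp f) f
  | assoc {X Y U V : PObj A} (f : X ⟶ᵖ U) (g : U ⟶ᵖ V) (h : V ⟶ᵖ Y) :
      PRel ((f.comp g).comp h) (f.comp (g.comp h))
  | id_tensorHom_id {X Y} : PRel ((PHom.id X).tensor (PHom.id Y)) (PHom.id _)
  | tensorHom_comp_tensorHom {X₁ Y₁ Z₁ X₂ Y₂ Z₂ : PObj A} (f₁ : X₁ ⟶ᵖ Y₁) (f₂ : X₂ ⟶ᵖ Y₂)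
      (g₁ : Y₁ ⟶ᵖ Z₁) (g₂ : Y₂ ⟶ᵖ Z₂) :
    PRel ((f₁.tensor f₂).comp (g₁.tensor g₂)) ((f₁.comp g₁).tensor (f₂.comp g₂))
  | whiskerLeft_id (X Y) : PRel ((PHom.id Y).whiskerLeft X) (PHom.id (X.tensor Y))
  | id_whiskerRight (X Y) : PRel ((PHom.id X).whiskerRight Y) (PHom.id (X.tensor Y))
  | α_hom_inv {X Y Z} : PRel ((PHom.α_hom X Y Z).comp (PHom.α_inv X Y Z)) (PHom.id _)
  | α_inv_hom {X Y Z} : PRel ((PHom.α_inv X Y Z).comp (PHom.α_hom X Y Z)) (PHom.id _)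
  | associator_naturality {X₁ X₂ X₃ Y₁ Y₂ Y₃} (f₁ : X₁ ⟶ᵖ Y₁) (f₂ : X₂ ⟶ᵖ Y₂) (f₃ : X₃ ⟶ᵖ Y₃) :
      PRel (((f₁.tensor f₂).tensor f₃).comp (PHom.α_hom Y₁ Y₂ Y₃))
        ((PHom.α_hom X₁ X₂ X₃).comp (f₁.tensor (f₂.tensor f₃)))
  | ρ_hom_inv {X} : PRel ((PHom.ρ_hom X).comp (PHom.ρ_inv X)) (PHom.id _)
  | ρ_inv_hom {X} : PRel ((PHom.ρ_inv X).comp (PHom.ρ_hom X)) (PHom.id _)
  | ρ_naturality {X Y} (f : X ⟶ᵖ Y) :
      PRel ((f.whiskerRight PObj.unit).comp (PHom.ρ_hom Y)) ((PHom.ρ_hom X).comp f)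
  | l_hom_inv {X} : PRel ((PHom.l_hom X).comp (PHom.l_inv X)) (PHom.id _)
  | l_inv_hom {X} : PRel ((PHom.l_inv X).comp (PHom.l_hom X)) (PHom.id _)
  | l_naturality {X Y} (f : X ⟶ᵖ Y) :
      PRel ((f.whiskerLeft PObj.unit).comp (PHom.l_hom Y)) ((PHom.l_hom X).comp f)
  | pentagon {W X Y Z} :
      PRel
        (((PHom.α_hom W X Y).whiskerRight Z).comp
          ((PHom.α_hom W (X.tensor Y) Z).comp ((PHom.α_hom X Y Z).whiskerLeft W)))
        ((PHom.α_hom (W.tensor X) Y Z).comp (PHom.α_hom W X (Y.tensor Z)))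
  | triangle {X Y} :
      PRel ((PHom.α_hom X PObj.unit Y).comp ((PHom.l_hom Y).whiskerLeft X))
        ((PHom.ρ_hom X).whiskerRight Y)
  -- braiding
  | β_symm (X Y) : PRel ((PHom.β X Y).comp (PHom.β Y X)) (PHom.id _)
  | β_naturality_right (X) {Y Z} (f : Y ⟶ᵖ Z) :
      PRel ((f.whiskerLeft X).comp (PHom.β X Z)) ((PHom.β X Y).comp (f.whiskerRight X))
  | β_naturality_left {X Y} (f : X ⟶ᵖ Y) (Z) :
      PRel ((f.whiskerRight Z).comp (PHom.β Y Z)) ((PHom.β X Z).comp (f.whiskerLeft Z))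
  | hexagon_forward (X Y Z) :
      PRel ((PHom.α_hom X Y Z).comp ((PHom.β X (Y.tensor Z)).comp (PHom.α_hom Y Z X)))
        (((PHom.β X Y).whiskerRight Z).comp
          ((PHom.α_hom Y X Z).comp ((PHom.β X Z).whiskerLeft Y)))
  | hexagon_reverse (X Y Z) :
      PRel ((PHom.α_inv X Y Z).comp ((PHom.β (X.tensor Y) Z).comp (PHom.α_inv Z X Y)))
        (((PHom.β Y Z).whiskerLeft X).comp
          ((PHom.α_inv X Z Y).comp ((PHom.β X Z).whiskerRight Y)))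
  -- the functor
  | ofHom_id (a : A) : PRel (PHom.ofHom (𝟙 a)) (PHom.id _)
  | ofHom_comp {a b c : A} (f : a ⟶ b) (g : b ⟶ c) :
      PRel (PHom.ofHom (f ≫ g)) ((PHom.ofHom f).comp (PHom.ofHom g))
  -- its lax monoidal structure
  | μ_hom_inv (a b : A) : PRel ((PHom.μ a b).comp (PHom.μ_inv a b)) (PHom.id _)
  | μ_inv_hom (a b : A) : PRel ((PHom.μ_inv a b).comp (PHom.μ a b)) (PHom.id _)
  | ε_hom_inv : PRel ((PHom.ε (A := A)).comp PHom.ε_inv) (PHom.id _)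
  | ε_inv_hom : PRel ((PHom.ε_inv (A := A)).comp PHom.ε) (PHom.id _)
  | μ_natural_left {a a' : A} (f : a ⟶ a') (b : A) :
      PRel (((PHom.ofHom f).whiskerRight (PObj.of b)).comp (PHom.μ a' b))
        ((PHom.μ a b).comp (PHom.ofHom (f ▷ b)))
  | μ_natural_right (a : A) {b b' : A} (g : b ⟶ b') :
      PRel (((PHom.ofHom g).whiskerLeft (PObj.of a)).comp (PHom.μ a b'))
        ((PHom.μ a b).comp (PHom.ofHom (a ◁ g)))
  | μ_assoc (a b c : A) :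
      PRel (((PHom.μ a b).whiskerRight (PObj.of c)).comp
          ((PHom.μ (a ⊗ b) c).comp (PHom.ofHom (α_ a b c).hom)))
        ((PHom.α_hom (PObj.of a) (PObj.of b) (PObj.of c)).comp
          (((PHom.μ b c).whiskerLeft (PObj.of a)).comp (PHom.μ a (b ⊗ c))))
  | left_unitality (a : A) :
      PRel (PHom.l_hom (PObj.of a))
        ((PHom.ε.whiskerRight (PObj.of a)).comp
          ((PHom.μ (𝟙_ A) a).comp (PHom.ofHom (λ_ a).hom)))
  | right_unitality (a : A) :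
      PRel (PHom.ρ_hom (PObj.of a))
        ((PHom.ε.whiskerLeft (PObj.of a)).comp
          ((PHom.μ a (𝟙_ A)).comp (PHom.ofHom (ρ_ a).hom)))
  | μ_braided (a b : A) :
      PRel ((PHom.μ a b).comp (PHom.ofHom (β_ a b).hom))
        ((PHom.β (PObj.of a) (PObj.of b)).comp (PHom.μ b a))
  -- inverses
  | η_hom_inv (X) : PRel ((PHom.η X).comp (PHom.η_inv X)) (PHom.id _)
  | η_inv_hom (X) : PRel ((PHom.η_inv X).comp (PHom.η X)) (PHom.id _)

/-- the setoid of formal morphisms -/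
instance setoidPHom (X Y : PObj A) : Setoid (X ⟶ᵖ Y) :=
  ⟨PRel, ⟨PRel.refl, PRel.symm _ _, PRel.trans⟩⟩

section

open PRel

instance categoryPObj : Category.{max u v} (PObj A) where
  Hom X Y := Quotient (setoidPHom X Y)
  id X := ⟦PHom.id X⟧
  comp := Quotient.map₂ PHom.comp (fun _ _ hf _ _ hg ↦ PRel.comp hf hg)
  id_comp := by
    rintro X Y ⟨f⟩
    exact Quotient.sound (id_comp f)
  comp_id := by
    rintro X Y ⟨f⟩
    exact Quotient.sound (comp_id f)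
  assoc := by
    rintro W X Y Z ⟨f⟩ ⟨g⟩ ⟨h⟩
    exact Quotient.sound (assoc f g h)

instance monoidalPObj : MonoidalCategory (PObj A) where
  tensorObj X Y := PObj.tensor X Y
  tensorHom := Quotient.map₂ PHom.tensor (fun _ _ hf _ _ hg ↦ PRel.tensor hf hg)
  whiskerLeft X _ _ f := Quot.map (fun f ↦ PHom.whiskerLeft X f) (fun f f' ↦ .whiskerLeft X f f') f
  whiskerRight f Y := Quot.map (fun f ↦ PHom.whiskerRight f Y) (fun f f' ↦ .whiskerRight f f' Y) f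
  tensorHom_def {W X Y Z} := by
    rintro ⟨f⟩ ⟨g⟩
    exact Quotient.sound (tensorHom_def _ _)
  id_tensorHom_id _ _ := Quot.sound id_tensorHom_id
  tensorHom_comp_tensorHom {X₁ Y₁ Z₁ X₂ Y₂ Z₂} := by
    rintro ⟨f₁⟩ ⟨f₂⟩ ⟨g₁⟩ ⟨g₂⟩
    exact Quotient.sound (tensorHom_comp_tensorHom _ _ _ _)
  whiskerLeft_id X Y := Quot.sound (PRel.whiskerLeft_id X Y)
  id_whiskerRight X Y := Quot.sound (PRel.id_whiskerRight X Y)
  tensorUnit := PObj.unit
  associator X Y Z :=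
    ⟨⟦PHom.α_hom X Y Z⟧, ⟦PHom.α_inv X Y Z⟧, Quotient.sound α_hom_inv, Quotient.sound α_inv_hom⟩
  associator_naturality {X₁ X₂ X₃ Y₁ Y₂ Y₃} := by
    rintro ⟨f₁⟩ ⟨f₂⟩ ⟨f₃⟩
    exact Quotient.sound (associator_naturality _ _ _)
  leftUnitor X := ⟨⟦PHom.l_hom X⟧, ⟦PHom.l_inv X⟧, Quotient.sound l_hom_inv, Quotient.sound l_inv_hom⟩
  leftUnitor_naturality {X Y} := by
    rintro ⟨f⟩
    exact Quotient.sound (l_naturality _)
  rightUnitor X :=
    ⟨⟦PHom.ρ_hom X⟧, ⟦PHom.ρ_inv X⟧, Quotient.sound ρ_hom_inv, Quotient.sound ρ_inv_hom⟩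
  rightUnitor_naturality {X Y} := by
    rintro ⟨f⟩
    exact Quotient.sound (ρ_naturality _)
  pentagon _ _ _ _ := Quotient.sound pentagon
  triangle _ _ := Quotient.sound triangle

instance braidedPObj : BraidedCategory (PObj A) where
  braiding X Y := ⟨⟦PHom.β X Y⟧, ⟦PHom.β Y X⟧, Quotient.sound (β_symm X Y),
    Quotient.sound (β_symm Y X)⟩
  braiding_naturality_right X {Y Z} := by
    rintro ⟨f⟩
    exact Quotient.sound (β_naturality_right X f)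
  braiding_naturality_left {X Y} := by
    rintro ⟨f⟩ Z
    exact Quotient.sound (β_naturality_left f Z)
  hexagon_forward X Y Z := Quotient.sound (hexagon_forward X Y Z)
  hexagon_reverse X Y Z := Quotient.sound (hexagon_reverse X Y Z)

instance symmetricPObj : SymmetricCategory (PObj A) where
  symmetry X Y := Quotient.sound (β_symm X Y)

/-- The abbreviation for `⟦f⟧`. -/
abbrev homMk {X Y : PObj A} (f : X ⟶ᵖ Y) : X ⟶ Y := ⟦f⟧

@[simp]
theorem mk_comp {X Y Z : PObj A} (f : X ⟶ᵖ Y) (g : Y ⟶ᵖ Z) :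
    homMk (f.comp g) = homMk f ≫ homMk g :=
  rfl

@[simp]
theorem mk_tensor {X₁ Y₁ X₂ Y₂ : PObj A} (f : X₁ ⟶ᵖ Y₁) (g : X₂ ⟶ᵖ Y₂) :
    homMk (f.tensor g) = homMk f ⊗ₘ homMk g :=
  rfl

@[simp]
theorem mk_whiskerLeft (X : PObj A) {Y₁ Y₂ : PObj A} (f : Y₁ ⟶ᵖ Y₂) :
    homMk (f.whiskerLeft X) = X ◁ homMk f :=
  rfl

@[simp]
theorem mk_whiskerRight {X₁ X₂ : PObj A} (f : X₁ ⟶ᵖ X₂) (Y : PObj A) :
    homMk (f.whiskerRight Y) = homMk f ▷ Y :=
  rfl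

@[simp]
theorem mk_id {X : PObj A} : homMk (PHom.id X) = 𝟙 X :=
  rfl

@[simp]
theorem mk_α_hom {X Y Z : PObj A} : homMk (PHom.α_hom X Y Z) = (α_ X Y Z).hom :=
  rfl

@[simp]
theorem mk_α_inv {X Y Z : PObj A} : homMk (PHom.α_inv X Y Z) = (α_ X Y Z).inv :=
  rfl

@[simp]
theorem mk_ρ_hom {X : PObj A} : homMk (PHom.ρ_hom X) = (ρ_ X).hom :=
  rfl

@[simp]
theorem mk_ρ_inv {X : PObj A} : homMk (PHom.ρ_inv X) = (ρ_ X).inv :=
  rfl

@[simp]
theorem mk_l_hom {X : PObj A} : homMk (PHom.l_hom X) = (λ_ X).hom :=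
  rfl

@[simp]
theorem mk_l_inv {X : PObj A} : homMk (PHom.l_inv X) = (λ_ X).inv :=
  rfl

@[simp]
theorem mk_β {X Y : PObj A} : homMk (PHom.β X Y) = (β_ X Y).hom :=
  rfl

@[simp]
theorem tensor_eq_tensor {X Y : PObj A} : X.tensor Y = X ⊗ Y :=
  rfl

@[simp]
theorem unit_eq_unit : PObj.unit = 𝟙_ (PObj A) :=
  rfl

end

end Groth.Agent.Helper6.Pic
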