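import Mathlib
import Groth.Agent.Lib.Helper6.Pic.Free

set_option linter.unusedSectionVars false
set_option linter.unusedVariables false
set_option linter.unusedSimpArgs false
set_option autoImplicit false
set_option linter.style.haveILetI false
set_option maxHeartbeats 400000

universe v v' u u'

namespace Groth.Agent.Helper6.Pic

open CategoryTheory MonoidalCategory

variable (A : Type u) [Category.{v} A] [MonoidalCategory A] [SymmetricCategory A]

/-- the inclusion of `A` in its free Picard category -/
def incl : A ⥤ PObj A where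
  obj := PObj.of
  map f := homMk (PHom.ofHom f)
  map_id a := Quotient.sound (PRel.ofHom_id a)
  map_comp f g := Quotient.sound (PRel.ofHom_comp f g)

@[simp] lemma incl_obj (a : A) : (incl A).obj a = PObj.of a := rfl

lemma incl_map {a b : A} (f : a ⟶ b) : (incl A).map f = homMk (PHom.ofHom f) := rfl

instance inclLaxBraided : (incl A).LaxBraided where
  ε := homMk PHom.ε
  μ a b := homMk (PHom.μ a b)
  μ_natural_left f b := Quotient.sound (PRel.μ_natural_left f b)
  μ_natural_right a g := Quotient.sound (PRel.μ_natural_right a g)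
  associativity a b c := Quotient.sound (PRel.μ_assoc a b c)
  left_unitality a := Quotient.sound (PRel.left_unitality a)
  right_unitality a := Quotient.sound (PRel.right_unitality a)
  braided a b := Quotient.sound (PRel.μ_braided a b)

lemma incl_ε : Functor.LaxMonoidal.ε (incl A) = homMk PHom.ε := rfl

lemma incl_μ (a b : A) : Functor.LaxMonoidal.μ (incl A) a b = homMk (PHom.μ a b) := rfl

variable {A}

/-- the tensorator as an isomorphism -/
def μIso (a b : A) : (PObj.of a ⊗ PObj.of b : PObj A) ≅ PObj.of (a ⊗ b) where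
  hom := homMk (PHom.μ a b)
  inv := homMk (PHom.μ_inv a b)
  hom_inv_id := Quotient.sound (PRel.μ_hom_inv a b)
  inv_hom_id := Quotient.sound (PRel.μ_inv_hom a b)

/-- the unit comparison as an isomorphism -/
def εIso : (𝟙_ (PObj A)) ≅ PObj.of (𝟙_ A) where
  hom := homMk PHom.ε
  inv := homMk PHom.ε_inv
  hom_inv_id := Quotient.sound PRel.ε_hom_inv
  inv_hom_id := Quotient.sound PRel.ε_inv_hom

/-- the inverse datum -/
def ηIso (X : PObj A) : (𝟙_ (PObj A)) ≅ X ⊗ X.inv where
  hom := homMk (PHom.η X)
  inv := homMk (PHom.η_inv X)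
  hom_inv_id := Quotient.sound (PRel.η_hom_inv X)
  inv_hom_id := Quotient.sound (PRel.η_inv_hom X)

lemma isIso_homMk [IsGroupoid A] {X Y : PObj A} (f : PHom X Y) : IsIso (homMk f) := by
    induction f with
    | id X => exact inferInstanceAs (IsIso (𝟙 X))
    | α_hom X Y Z => exact inferInstanceAs (IsIso (α_ X Y Z).hom)
    | α_inv X Y Z => exact inferInstanceAs (IsIso (α_ X Y Z).inv)
    | l_hom X => exact inferInstanceAs (IsIso (λ_ X).hom)
    | l_inv X => exact inferInstanceAs (IsIso (λ_ X).inv)
    | ρ_hom X => exact inferInstanceAs (IsIso (ρ_ X).hom)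
    | ρ_inv X => exact inferInstanceAs (IsIso (ρ_ X).inv)
    | β X Y => exact inferInstanceAs (IsIso (β_ X Y).hom)
    | comp f g hf hg =>
      rw [mk_comp]
      haveI := hf
      haveI := hg
      infer_instance
    | whiskerLeft X f hf =>
      rw [mk_whiskerLeft]
      haveI := hf
      infer_instance
    | whiskerRight f Y hf =>
      rw [mk_whiskerRight]
      haveI := hf
      infer_instance
    | tensor f g hf hg =>
      rw [mk_tensor]
      haveI := hf
      haveI := hg
      infer_instance
    | ofHom f =>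
      haveI : IsIso f := IsGroupoid.all_isIso f
      exact inferInstanceAs (IsIso ((incl A).map f))
    | μ a b => exact inferInstanceAs (IsIso (μIso a b).hom)
    | μ_inv a b => exact inferInstanceAs (IsIso (μIso a b).inv)
    | ε => exact inferInstanceAs (IsIso (εIso (A := A)).hom)
    | ε_inv => exact inferInstanceAs (IsIso (εIso (A := A)).inv)
    | η X => exact inferInstanceAs (IsIso (ηIso X).hom)
    | η_inv X => exact inferInstanceAs (IsIso (ηIso X).inv)

instance isGroupoidPObj [IsGroupoid A] : IsGroupoid (PObj A) where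
  all_isIso := by
    rintro X Y ⟨f⟩
    exact isIso_homMk f

section InvGeneral

variable {C : Type u'} [Category.{v'} C] [MonoidalCategory C]

/-- tensoring on the left with an invertible object is an equivalence -/
lemma isEquivalence_tensorLeft_of_iso (X Y : C) (e : X ⊗ Y ≅ 𝟙_ C) (e' : Y ⊗ X ≅ 𝟙_ C) :
    (tensorLeft X).IsEquivalence := by
  let unitIso : 𝟭 C ≅ tensorLeft X ⋙ tensorLeft Y :=
    (leftUnitorNatIso C).symm ≪≫ ((tensoringLeft C).mapIso e'.symm) ≪≫ tensorLeftTensor Y X
  let counitIso : tensorLeft Y ⋙ tensorLeft X ≅ 𝟭 C :=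
    (tensorLeftTensor X Y).symm ≪≫ ((tensoringLeft C).mapIso e) ≪≫ leftUnitorNatIso C
  exact (CategoryTheory.Equivalence.mk (tensorLeft X) (tensorLeft Y) unitIso counitIso).isEquivalence_functor

/-- tensoring on the right with an invertible object is an equivalence -/
lemma isEquivalence_tensorRight_of_iso (X Y : C) (e : X ⊗ Y ≅ 𝟙_ C) (e' : Y ⊗ X ≅ 𝟙_ C) :
    (tensorRight X).IsEquivalence := by
  let unitIso : 𝟭 C ≅ tensorRight X ⋙ tensorRight Y :=
    (rightUnitorNatIso C).symm ≪≫ ((tensoringRight C).mapIso e.symm) ≪≫ tensorRightTensor X Y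
  let counitIso : tensorRight Y ⋙ tensorRight X ≅ 𝟭 C :=
    (tensorRightTensor Y X).symm ≪≫ ((tensoringRight C).mapIso e') ≪≫ rightUnitorNatIso C
  exact (CategoryTheory.Equivalence.mk (tensorRight X) (tensorRight Y) unitIso counitIso).isEquivalence_functor

end InvGeneral

lemma isEquivalence_tensorLeft (X : PObj A) : (tensorLeft X).IsEquivalence :=
  isEquivalence_tensorLeft_of_iso X X.inv (ηIso X).symm ((β_ X.inv X) ≪≫ (ηIso X).symm)

lemma isEquivalence_tensorRight (X : PObj A) : (tensorRight X).IsEquivalence :=
  isEquivalence_tensorRight_of_iso X X.inv (ηIso X).symm ((β_ X.inv X) ≪≫ (ηIso X).symm)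

end Groth.Agent.Helper6.Pic
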