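import Mathlib
import Groth.Agent.Lib.Helper6.Pic.Incl

set_option linter.unusedSectionVars false
set_option linter.unusedVariables false
set_option linter.unusedSimpArgs false
set_option autoImplicit false
set_option linter.style.haveILetI false
set_option maxHeartbeats 400000

universe v v' u u'

namespace Groth.Agent.Helper6.Pic

open CategoryTheory MonoidalCategory Functor.LaxMonoidal

variable {A : Type u} [Category.{v} A] [MonoidalCategory A] [SymmetricCategory A]
variable {P : Type u'} [Category.{v'} P] [MonoidalCategory P] [SymmetricCategory P]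
  [IsGroupoid P]
variable (hP : ∀ X : P, (tensorLeft X).IsEquivalence ∧ (tensorRight X).IsEquivalence)

/-- a chosen inverse of an object of a Picard category -/
noncomputable def invObj (X : P) : P :=
  haveI := (hP X).1
  (tensorLeft X).objPreimage (𝟙_ P)

/-- the chosen inverse is an inverse -/
noncomputable def invIso (X : P) : X ⊗ invObj hP X ≅ 𝟙_ P :=
  haveI := (hP X).1
  (tensorLeft X).objObjPreimageIso (𝟙_ P)

variable (Φ : A ⥤ P) [Φ.LaxBraided]

/-- the inverse of the tensorator of a lax monoidal functor to a groupoid -/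
noncomputable def μInv (a b : A) : Φ.obj (a ⊗ b) ⟶ Φ.obj a ⊗ Φ.obj b :=
  haveI : IsIso (μ Φ a b) := IsGroupoid.all_isIso _
  inv (μ Φ a b)

/-- the inverse of the unit map of a lax monoidal functor to a groupoid -/
noncomputable def εInv : Φ.obj (𝟙_ A) ⟶ 𝟙_ P :=
  haveI : IsIso (ε Φ) := IsGroupoid.all_isIso _
  inv (ε Φ)

@[reassoc (attr := simp)]
lemma μ_μInv (a b : A) : μ Φ a b ≫ μInv Φ a b = 𝟙 _ := by
  haveI : IsIso (μ Φ a b) := IsGroupoid.all_isIso _
  exact IsIso.hom_inv_id _

@[reassoc (attr := simp)]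
lemma μInv_μ (a b : A) : μInv Φ a b ≫ μ Φ a b = 𝟙 _ := by
  haveI : IsIso (μ Φ a b) := IsGroupoid.all_isIso _
  exact IsIso.inv_hom_id _

@[reassoc (attr := simp)]
lemma ε_εInv : ε Φ ≫ εInv Φ = 𝟙 _ := by
  haveI : IsIso (ε Φ) := IsGroupoid.all_isIso _
  exact IsIso.hom_inv_id _

@[reassoc (attr := simp)]
lemma εInv_ε : εInv Φ ≫ ε Φ = 𝟙 _ := by
  haveI : IsIso (ε Φ) := IsGroupoid.all_isIso _
  exact IsIso.inv_hom_id _

/-- the extension of `Φ` to the free Picard category, on objects -/
noncomputable def projObj : PObj A → P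
  | PObj.of a => Φ.obj a
  | PObj.unit => 𝟙_ P
  | PObj.tensor X Y => projObj X ⊗ projObj Y
  | PObj.inv X => invObj hP (projObj X)

/-- the extension of `Φ` to the free Picard category, on formal morphisms -/
noncomputable def projMapAux : ∀ {X Y : PObj A}, PHom X Y → (projObj hP Φ X ⟶ projObj hP Φ Y)
  | _, _, PHom.id _ => 𝟙 _
  | _, _, PHom.α_hom _ _ _ => (α_ _ _ _).hom
  | _, _, PHom.α_inv _ _ _ => (α_ _ _ _).inv
  | _, _, PHom.l_hom _ => (λ_ _).hom
  | _, _, PHom.l_inv _ => (λ_ _).inv
  | _, _, PHom.ρ_hom _ => (ρ_ _).hom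
  | _, _, PHom.ρ_inv _ => (ρ_ _).inv
  | _, _, PHom.β _ _ => (β_ _ _).hom
  | _, _, PHom.comp f g => projMapAux f ≫ projMapAux g
  | _, _, PHom.whiskerLeft X p => projObj hP Φ X ◁ projMapAux p
  | _, _, PHom.whiskerRight p X => projMapAux p ▷ projObj hP Φ X
  | _, _, PHom.tensor f g => projMapAux f ⊗ₘ projMapAux g
  | _, _, PHom.ofHom f => Φ.map f
  | _, _, PHom.μ a b => μ Φ a b
  | _, _, PHom.μ_inv a b => μInv Φ a b
  | _, _, PHom.ε => ε Φ
  | _, _, PHom.ε_inv => εInv Φ
  | _, _, PHom.η X => (invIso hP (projObj hP Φ X)).inv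
  | _, _, PHom.η_inv X => (invIso hP (projObj hP Φ X)).hom

set_option backward.isDefEq.respectTransparency false in
lemma projMapAux_respects {X Y : PObj A} (f g : PHom X Y) (h : PRel f g) :
    projMapAux hP Φ f = projMapAux hP Φ g := by
  induction h with
  | refl => rfl
  | symm _ _ _ hfg' => exact hfg'.symm
  | trans _ _ hfg hgh => exact hfg.trans hgh
  | comp _ _ hf hg => dsimp only [projMapAux]; rw [hf, hg]
  | whiskerLeft _ _ _ _ hf => dsimp only [projMapAux, projObj]; rw [hf]
  | whiskerRight _ _ _ _ hf => dsimp only [projMapAux, projObj]; rw [hf]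
  | tensor _ _ hfg hfg' => dsimp only [projMapAux]; rw [hfg, hfg']
  | tensorHom_def _ _ =>
      dsimp only [projMapAux, projObj]; rw [MonoidalCategory.tensorHom_def]
  | comp_id => dsimp only [projMapAux]; rw [Category.comp_id]
  | id_comp => dsimp only [projMapAux]; rw [Category.id_comp]
  | assoc => dsimp only [projMapAux]; rw [Category.assoc]
  | id_tensorHom_id => dsimp only [projMapAux]; rw [MonoidalCategory.id_tensorHom_id]; rfl
  | tensorHom_comp_tensorHom =>
    dsimp only [projMapAux]; rw [MonoidalCategory.tensorHom_comp_tensorHom]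
  | whiskerLeft_id =>
      dsimp only [projMapAux, projObj]
      rw [MonoidalCategory.whiskerLeft_id]
  | id_whiskerRight =>
      dsimp only [projMapAux, projObj]
      rw [MonoidalCategory.id_whiskerRight]
  | α_hom_inv => dsimp only [projMapAux]; rw [Iso.hom_inv_id]
  | α_inv_hom => dsimp only [projMapAux]; rw [Iso.inv_hom_id]
  | associator_naturality =>
      dsimp only [projMapAux]; rw [MonoidalCategory.associator_naturality]
  | ρ_hom_inv => dsimp only [projMapAux]; rw [Iso.hom_inv_id]
  | ρ_inv_hom => dsimp only [projMapAux]; rw [Iso.inv_hom_id]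
  | ρ_naturality =>
      dsimp only [projMapAux, projObj]
      rw [MonoidalCategory.rightUnitor_naturality]
  | l_hom_inv => dsimp only [projMapAux]; rw [Iso.hom_inv_id]
  | l_inv_hom => dsimp only [projMapAux]; rw [Iso.inv_hom_id]
  | l_naturality =>
      dsimp only [projMapAux, projObj]
      rw [MonoidalCategory.leftUnitor_naturality]
  | pentagon =>
      dsimp only [projMapAux, projObj]
      rw [MonoidalCategory.pentagon]
  | triangle =>
      dsimp only [projMapAux, projObj]
      rw [MonoidalCategory.triangle]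
  | β_symm =>
      dsimp only [projMapAux, projObj]
      rw [SymmetricCategory.symmetry]
  | β_naturality_right =>
      dsimp only [projMapAux, projObj]
      rw [BraidedCategory.braiding_naturality_right]
  | β_naturality_left =>
      dsimp only [projMapAux, projObj]
      rw [BraidedCategory.braiding_naturality_left]
  | hexagon_forward =>
      dsimp only [projMapAux, projObj]
      rw [BraidedCategory.hexagon_forward]
  | hexagon_reverse =>
      dsimp only [projMapAux, projObj]
      rw [BraidedCategory.hexagon_reverse]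
  | ofHom_id => dsimp only [projMapAux]; exact Φ.map_id _
  | ofHom_comp => dsimp only [projMapAux]; exact Φ.map_comp _ _
  | μ_hom_inv => dsimp only [projMapAux]; rw [μ_μInv]; rfl
  | μ_inv_hom => dsimp only [projMapAux]; rw [μInv_μ]; rfl
  | ε_hom_inv => dsimp only [projMapAux]; rw [ε_εInv]; rfl
  | ε_inv_hom => dsimp only [projMapAux]; rw [εInv_ε]; rfl
  | μ_natural_left =>
      dsimp only [projMapAux, projObj]
      rw [Functor.LaxMonoidal.μ_natural_left]
  | μ_natural_right =>
      dsimp only [projMapAux, projObj]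
      rw [Functor.LaxMonoidal.μ_natural_right]
  | μ_assoc =>
      dsimp only [projMapAux, projObj]
      rw [Functor.LaxMonoidal.associativity]
  | left_unitality =>
      dsimp only [projMapAux, projObj]
      rw [Functor.LaxMonoidal.left_unitality]
  | right_unitality =>
      dsimp only [projMapAux, projObj]
      rw [Functor.LaxMonoidal.right_unitality]
  | μ_braided =>
      dsimp only [projMapAux, projObj]
      rw [Functor.LaxBraided.braided]
  | η_hom_inv => dsimp only [projMapAux]; rw [Iso.inv_hom_id]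
  | η_inv_hom => dsimp only [projMapAux]; rw [Iso.hom_inv_id]

/-- the extension of `Φ` to the free Picard category, on morphisms -/
noncomputable def projMap (X Y : PObj A) : (X ⟶ Y) → (projObj hP Φ X ⟶ projObj hP Φ Y) :=
  Quotient.lift (projMapAux hP Φ) (projMapAux_respects hP Φ)

/-- the extension of `Φ` to the free Picard category -/
noncomputable def proj : PObj A ⥤ P where
  obj := projObj hP Φ
  map := projMap hP Φ _ _
  map_id _ := rfl
  map_comp := by rintro _ _ _ ⟨_⟩ ⟨_⟩; rfl

lemma proj_map_mk {X Y : PObj A} (f : PHom X Y) :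
    (proj hP Φ).map (homMk f) = projMapAux hP Φ f := rfl

lemma proj_obj_tensor (X Y : PObj A) :
    (proj hP Φ).obj (X ⊗ Y) = (proj hP Φ).obj X ⊗ (proj hP Φ).obj Y := rfl

lemma proj_obj_unit : (proj hP Φ).obj (𝟙_ (PObj A)) = 𝟙_ P := rfl

lemma proj_obj_of (a : A) : (proj hP Φ).obj (PObj.of a) = Φ.obj a := rfl

noncomputable instance projLaxBraided : (proj hP Φ).LaxBraided where
  ε := 𝟙 _
  μ X Y := 𝟙 _
  μ_natural_left := by
    rintro X Y ⟨f⟩ X'
    exact (Category.comp_id _).trans (Category.id_comp _).symm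
  μ_natural_right := by
    rintro X Y X' ⟨f⟩
    exact (Category.comp_id _).trans (Category.id_comp _).symm
  associativity X Y Z := by
    change 𝟙 _ ▷ _ ≫ 𝟙 _ ≫ (α_ _ _ _).hom = (α_ _ _ _).hom ≫ _ ◁ 𝟙 _ ≫ 𝟙 _
    simp
  left_unitality X := by
    change (λ_ _).hom = 𝟙 _ ▷ _ ≫ 𝟙 _ ≫ (λ_ _).hom
    simp
  right_unitality X := by
    change (ρ_ _).hom = _ ◁ 𝟙 _ ≫ 𝟙 _ ≫ (ρ_ _).hom
    simp
  braided X Y := by
    change 𝟙 _ ≫ (β_ _ _).hom = (β_ _ _).hom ≫ 𝟙 _
    simp

lemma proj_ε : ε (proj hP Φ) = 𝟙 _ := rfl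

lemma proj_μ (X Y : PObj A) : μ (proj hP Φ) X Y = 𝟙 _ := rfl

/-- the extension restricts to `Φ` -/
noncomputable def inclProjIso : incl A ⋙ proj hP Φ ≅ Φ :=
  NatIso.ofComponents (fun a => Iso.refl _) (by
    intro a b f
    exact (Category.comp_id _).trans (Category.id_comp _).symm)

lemma inclProjIso_hom_app (a : A) : (inclProjIso hP Φ).hom.app a = 𝟙 _ := rfl

instance inclProjIso_isMonoidal : NatTrans.IsMonoidal (inclProjIso hP Φ).hom where
  unit := by
    rw [Functor.LaxMonoidal.comp_ε]
    change (𝟙 (𝟙_ P) ≫ ε Φ) ≫ 𝟙 (Φ.obj (𝟙_ A)) = ε Φ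
    simp
  tensor a b := by
    rw [Functor.LaxMonoidal.comp_μ]
    change (𝟙 (Φ.obj a ⊗ Φ.obj b) ≫ μ Φ a b) ≫ 𝟙 (Φ.obj (a ⊗ b)) =
      (𝟙 (Φ.obj a) ⊗ₘ 𝟙 (Φ.obj b)) ≫ μ Φ a b
    simp

end Groth.Agent.Helper6.Pic
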