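import Mathlib
import Groth.Agent.Lib.Helper6.Pic.Lift

set_option linter.unusedSectionVars false
set_option linter.unusedVariables false
set_option linter.unusedSimpArgs false
set_option autoImplicit false
set_option linter.style.haveILetI false
set_option maxHeartbeats 400000

universe v v' u u'

namespace Groth.Agent.Helper6.Pic

open CategoryTheory MonoidalCategory Functor.LaxMonoidal

variable {A : Type u} [Category.{v} A] [MonoidalCategory A] [SymmetricCategory A]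
variable {P : Type u'} [Category.{v'} P] [MonoidalCategory P] [SymmetricCategory P]
  [IsGroupoid P]
variable (hP : ∀ X : P, (tensorLeft X).IsEquivalence ∧ (tensorRight X).IsEquivalence)
variable (Ψ Ψ' : PObj A ⥤ P) [Ψ.LaxBraided] [Ψ'.LaxBraided]

/-- the morphism `Ψ X ⊗ Ψ X⁻¹ ⟶ Ψ' X ⊗ Ψ' X⁻¹` forced by naturality with respect to `η` -/
noncomputable def kappa (X : PObj A) :
    Ψ.obj X ⊗ Ψ.obj X.inv ⟶ Ψ'.obj X ⊗ Ψ'.obj X.inv :=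
  μ Ψ X X.inv ≫ Ψ.map (ηIso X).inv ≫ (εInv Ψ ≫ ε Ψ') ≫ Ψ'.map (ηIso X).hom ≫ μInv Ψ' X X.inv

/-- the component at `X⁻¹` forced by the component at `X` -/
noncomputable def invComp (X : PObj A) (t : Ψ.obj X ⟶ Ψ'.obj X) :
    Ψ.obj X.inv ⟶ Ψ'.obj X.inv :=
  haveI := (hP (Ψ'.obj X)).1
  haveI : IsIso (t ▷ Ψ.obj X.inv) := IsGroupoid.all_isIso _
  (tensorLeft (Ψ'.obj X)).preimage (inv (t ▷ Ψ.obj X.inv) ≫ kappa Ψ Ψ' X)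

lemma whiskerLeft_invComp (X : PObj A) (t : Ψ.obj X ⟶ Ψ'.obj X) :
    t ▷ Ψ.obj X.inv ≫ Ψ'.obj X ◁ invComp hP Ψ Ψ' X t = kappa Ψ Ψ' X := by
  haveI := (hP (Ψ'.obj X)).1
  haveI : IsIso (t ▷ Ψ.obj X.inv) := IsGroupoid.all_isIso _
  have h : Ψ'.obj X ◁ invComp hP Ψ Ψ' X t = inv (t ▷ Ψ.obj X.inv) ≫ kappa Ψ Ψ' X :=
    (tensorLeft (Ψ'.obj X)).map_preimage _
  rw [h, IsIso.hom_inv_id_assoc]

lemma invComp_unique (X : PObj A) (t : Ψ.obj X ⟶ Ψ'.obj X) (s : Ψ.obj X.inv ⟶ Ψ'.obj X.inv)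
    (hs : t ▷ Ψ.obj X.inv ≫ Ψ'.obj X ◁ s = kappa Ψ Ψ' X) : s = invComp hP Ψ Ψ' X t := by
  haveI := (hP (Ψ'.obj X)).1
  haveI : IsIso (t ▷ Ψ.obj X.inv) := IsGroupoid.all_isIso _
  apply (tensorLeft (Ψ'.obj X)).map_injective
  change Ψ'.obj X ◁ s = Ψ'.obj X ◁ invComp hP Ψ Ψ' X t
  rw [← cancel_epi (t ▷ Ψ.obj X.inv), hs, whiskerLeft_invComp]

variable (τ : incl A ⋙ Ψ ⟶ incl A ⋙ Ψ')

/-- the components of the extension of `τ` -/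
noncomputable def theta : ∀ X : PObj A, Ψ.obj X ⟶ Ψ'.obj X
  | PObj.of a => τ.app a
  | PObj.unit => εInv Ψ ≫ ε Ψ'
  | PObj.tensor X Y => μInv Ψ X Y ≫ (theta X ⊗ₘ theta Y) ≫ μ Ψ' X Y
  | PObj.inv X => invComp hP Ψ Ψ' X (theta X)

lemma theta_of (a : A) : theta hP Ψ Ψ' τ ((incl A).obj a) = τ.app a := rfl

lemma theta_unit : theta hP Ψ Ψ' τ (𝟙_ (PObj A)) = εInv Ψ ≫ ε Ψ' := rfl

lemma theta_tensor (X Y : PObj A) :
    theta hP Ψ Ψ' τ (X ⊗ Y) =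
      μInv Ψ X Y ≫ (theta hP Ψ Ψ' τ X ⊗ₘ theta hP Ψ Ψ' τ Y) ≫ μ Ψ' X Y := rfl

lemma theta_inv (X : PObj A) :
    theta hP Ψ Ψ' τ X.inv = invComp hP Ψ Ψ' X (theta hP Ψ Ψ' τ X) := rfl

@[reassoc]
lemma ε_theta : ε Ψ ≫ theta hP Ψ Ψ' τ (𝟙_ (PObj A)) = ε Ψ' := by
  rw [theta_unit, ε_εInv_assoc]

@[reassoc]
lemma μ_theta (X Y : PObj A) :
    μ Ψ X Y ≫ theta hP Ψ Ψ' τ (X ⊗ Y) =
      (theta hP Ψ Ψ' τ X ⊗ₘ theta hP Ψ Ψ' τ Y) ≫ μ Ψ' X Y := by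
  rw [theta_tensor, μ_μInv_assoc]

end Groth.Agent.Helper6.Pic
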