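import Mathlib
import Groth.Agent.Lib.Helper6.Pic.Theta

set_option linter.unusedSectionVars false
set_option linter.unusedVariables false
set_option linter.unusedSimpArgs false
set_option autoImplicit false
set_option linter.style.haveILetI false
set_option maxHeartbeats 400000

universe v v' u u'

namespace Groth.Agent.Helper6.Pic

open CategoryTheory MonoidalCategory Functor.LaxMonoidal

variable {A : Type u} [Category.{v} A] [MonoidalCategory A] [SymmetricCategory A]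
variable {P : Type u'} [Category.{v'} P] [MonoidalCategory P] [SymmetricCategory P]
  [IsGroupoid P]
variable (hP : ∀ X : P, (tensorLeft X).IsEquivalence ∧ (tensorRight X).IsEquivalence)
variable (Ψ Ψ' : PObj A ⥤ P) [Ψ.LaxBraided] [Ψ'.LaxBraided]
variable (τ : incl A ⋙ Ψ ⟶ incl A ⋙ Ψ')

local notation "θ" => theta hP Ψ Ψ' τ

/-- naturality of `θ` with respect to a morphism -/
def IsNat {X Y : PObj A} (f : X ⟶ Y) : Prop :=
  Ψ.map f ≫ θ Y = θ X ≫ Ψ'.map f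

lemma isNat_id (X : PObj A) : IsNat hP Ψ Ψ' τ (𝟙 X) := by
  unfold IsNat
  rw [CategoryTheory.Functor.map_id, CategoryTheory.Functor.map_id, Category.id_comp,
    Category.comp_id]

lemma isNat_comp {X Y Z : PObj A} (f : X ⟶ Y) (g : Y ⟶ Z) (hf : IsNat hP Ψ Ψ' τ f)
    (hg : IsNat hP Ψ Ψ' τ g) : IsNat hP Ψ Ψ' τ (f ≫ g) := by
  unfold IsNat at hf hg ⊢
  rw [Functor.map_comp, Functor.map_comp, Category.assoc, hg, reassoc_of% hf]

lemma isNat_inv {X Y : PObj A} (e : X ≅ Y) (h : IsNat hP Ψ Ψ' τ e.hom) :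
    IsNat hP Ψ Ψ' τ e.inv := by
  unfold IsNat at h ⊢
  rw [← cancel_epi (Ψ.map e.hom), ← Functor.map_comp_assoc, e.hom_inv_id,
    CategoryTheory.Functor.map_id, Category.id_comp, reassoc_of% h, ← Functor.map_comp,
    e.hom_inv_id, CategoryTheory.Functor.map_id, Category.comp_id]

lemma isNat_whiskerRight {X Y : PObj A} (f : X ⟶ Y) (Z : PObj A) (hf : IsNat hP Ψ Ψ' τ f) :
    IsNat hP Ψ Ψ' τ (f ▷ Z) := by
  unfold IsNat at hf ⊢
  rw [← cancel_epi (μ Ψ X Z), ← μ_natural_left_assoc, μ_theta, μ_theta_assoc,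
    ← μ_natural_left, MonoidalCategory.tensorHom_def, MonoidalCategory.tensorHom_def,
    Category.assoc, Category.assoc,
    ← comp_whiskerRight_assoc, hf, comp_whiskerRight_assoc, ← whisker_exchange_assoc]

lemma isNat_whiskerLeft (Z : PObj A) {X Y : PObj A} (f : X ⟶ Y) (hf : IsNat hP Ψ Ψ' τ f) :
    IsNat hP Ψ Ψ' τ (Z ◁ f) := by
  unfold IsNat at hf ⊢
  rw [← cancel_epi (μ Ψ Z X), ← μ_natural_right_assoc, μ_theta, μ_theta_assoc,
    ← μ_natural_right, MonoidalCategory.tensorHom_def', MonoidalCategory.tensorHom_def',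
    Category.assoc, Category.assoc,
    ← whiskerLeft_comp_assoc, hf, whiskerLeft_comp_assoc, whisker_exchange_assoc]

lemma isNat_tensor {X Y X' Y' : PObj A} (f : X ⟶ Y) (g : X' ⟶ Y') (hf : IsNat hP Ψ Ψ' τ f)
    (hg : IsNat hP Ψ Ψ' τ g) : IsNat hP Ψ Ψ' τ (f ⊗ₘ g) := by
  rw [MonoidalCategory.tensorHom_def]
  exact isNat_comp hP Ψ Ψ' τ _ _ (isNat_whiskerRight hP Ψ Ψ' τ f X' hf)
    (isNat_whiskerLeft hP Ψ Ψ' τ Y g hg)

lemma whiskerLeft_μ_theta (X Y Z : PObj A) :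
    Ψ.obj X ◁ μ Ψ Y Z ≫ (θ X ⊗ₘ θ (Y ⊗ Z)) =
      (θ X ⊗ₘ (θ Y ⊗ₘ θ Z)) ≫ Ψ'.obj X ◁ μ Ψ' Y Z := by
  rw [← id_tensorHom, ← id_tensorHom, MonoidalCategory.tensorHom_comp_tensorHom,
    MonoidalCategory.tensorHom_comp_tensorHom, Category.id_comp, Category.comp_id, μ_theta]

lemma μ_whiskerRight_theta (X Y Z : PObj A) :
    μ Ψ X Y ▷ Ψ.obj Z ≫ (θ (X ⊗ Y) ⊗ₘ θ Z) =
      ((θ X ⊗ₘ θ Y) ⊗ₘ θ Z) ≫ μ Ψ' X Y ▷ Ψ'.obj Z := by
  rw [← tensorHom_id, ← tensorHom_id, MonoidalCategory.tensorHom_comp_tensorHom,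
    MonoidalCategory.tensorHom_comp_tensorHom, Category.id_comp, Category.comp_id, μ_theta]

lemma isNat_associator (X Y Z : PObj A) : IsNat hP Ψ Ψ' τ (α_ X Y Z).hom := by
  unfold IsNat
  rw [← cancel_epi (μ Ψ (X ⊗ Y) Z), ← cancel_epi (μ Ψ X Y ▷ Ψ.obj Z),
    associativity_assoc, μ_theta, μ_theta_assoc,
    reassoc_of% (whiskerLeft_μ_theta hP Ψ Ψ' τ X Y Z),
    reassoc_of% (μ_whiskerRight_theta hP Ψ Ψ' τ X Y Z), associativity,
    associator_naturality_assoc]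

lemma isNat_leftUnitor (X : PObj A) : IsNat hP Ψ Ψ' τ (λ_ X).hom := by
  unfold IsNat
  rw [← cancel_epi (μ Ψ (𝟙_ (PObj A)) X), ← cancel_epi (ε Ψ ▷ Ψ.obj X),
    ← left_unitality_assoc, μ_theta_assoc, ← tensorHom_id,
    MonoidalCategory.tensorHom_comp_tensorHom_assoc, Category.id_comp, ε_theta,
    ← tensorUnit_whiskerLeft_comp_leftUnitor_hom, leftUnitor_naturality]

lemma isNat_rightUnitor (X : PObj A) : IsNat hP Ψ Ψ' τ (ρ_ X).hom := by
  unfold IsNat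
  rw [← cancel_epi (μ Ψ X (𝟙_ (PObj A))), ← cancel_epi (Ψ.obj X ◁ ε Ψ),
    ← right_unitality_assoc, μ_theta_assoc, ← id_tensorHom,
    MonoidalCategory.tensorHom_comp_tensorHom_assoc, Category.id_comp, ε_theta,
    ← whiskerRight_tensorUnit_comp_rightUnitor_hom, rightUnitor_naturality]

lemma isNat_braiding (X Y : PObj A) : IsNat hP Ψ Ψ' τ (β_ X Y).hom := by
  unfold IsNat
  rw [← cancel_epi (μ Ψ X Y), Functor.LaxBraided.braided_assoc, μ_theta, μ_theta_assoc,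
    Functor.LaxBraided.braided, BraidedCategory.braiding_naturality_assoc]

lemma isNat_ofHom {a b : A} (f : a ⟶ b) : IsNat hP Ψ Ψ' τ ((incl A).map f) :=
  τ.naturality f

lemma isNat_μ [NatTrans.IsMonoidal τ] (a b : A) : IsNat hP Ψ Ψ' τ (μ (incl A) a b) := by
  unfold IsNat
  have h := NatTrans.IsMonoidal.tensor (τ := τ) a b
  rw [Functor.LaxMonoidal.comp_μ, Functor.LaxMonoidal.comp_μ, Category.assoc] at h
  rw [← cancel_epi (μ Ψ ((incl A).obj a) ((incl A).obj b)), μ_theta_assoc]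
  exact h

lemma isNat_ε [NatTrans.IsMonoidal τ] : IsNat hP Ψ Ψ' τ (ε (incl A)) := by
  unfold IsNat
  have h := NatTrans.IsMonoidal.unit (τ := τ)
  rw [Functor.LaxMonoidal.comp_ε, Functor.LaxMonoidal.comp_ε, Category.assoc] at h
  rw [← cancel_epi (ε Ψ), ε_theta_assoc]
  exact h

lemma theta_tensor_inv (X : PObj A) :
    θ (X ⊗ X.inv) = Ψ.map (ηIso X).inv ≫ θ (𝟙_ (PObj A)) ≫ Ψ'.map (ηIso X).hom := by
  rw [theta_tensor, MonoidalCategory.tensorHom_def, theta_inv, whiskerLeft_invComp, kappa,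
    theta_unit]
  simp only [Category.assoc, μInv_μ, μInv_μ_assoc, Category.comp_id]

lemma isNat_η (X : PObj A) : IsNat hP Ψ Ψ' τ (ηIso X).hom := by
  unfold IsNat
  rw [theta_tensor_inv, ← Functor.map_comp_assoc, Iso.hom_inv_id, CategoryTheory.Functor.map_id,
    Category.id_comp]

lemma isNat_mk [NatTrans.IsMonoidal τ] {X Y : PObj A} (f : PHom X Y) :
    IsNat hP Ψ Ψ' τ (homMk f) := by
  induction f with
  | id X => exact isNat_id hP Ψ Ψ' τ X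
  | α_hom X Y Z => exact isNat_associator hP Ψ Ψ' τ X Y Z
  | α_inv X Y Z => exact isNat_inv hP Ψ Ψ' τ (α_ X Y Z) (isNat_associator hP Ψ Ψ' τ X Y Z)
  | l_hom X => exact isNat_leftUnitor hP Ψ Ψ' τ X
  | l_inv X => exact isNat_inv hP Ψ Ψ' τ (λ_ X) (isNat_leftUnitor hP Ψ Ψ' τ X)
  | ρ_hom X => exact isNat_rightUnitor hP Ψ Ψ' τ X
  | ρ_inv X => exact isNat_inv hP Ψ Ψ' τ (ρ_ X) (isNat_rightUnitor hP Ψ Ψ' τ X)
  | β X Y => exact isNat_braiding hP Ψ Ψ' τ X Y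
  | comp f g hf hg => exact isNat_comp hP Ψ Ψ' τ _ _ hf hg
  | whiskerLeft X f hf => exact isNat_whiskerLeft hP Ψ Ψ' τ X _ hf
  | whiskerRight f Y hf => exact isNat_whiskerRight hP Ψ Ψ' τ _ Y hf
  | tensor f g hf hg => exact isNat_tensor hP Ψ Ψ' τ _ _ hf hg
  | ofHom f => exact isNat_ofHom hP Ψ Ψ' τ f
  | μ a b => exact isNat_μ hP Ψ Ψ' τ a b
  | μ_inv a b => exact isNat_inv hP Ψ Ψ' τ (μIso a b) (isNat_μ hP Ψ Ψ' τ a b)
  | ε => exact isNat_ε hP Ψ Ψ' τ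
  | ε_inv => exact isNat_inv hP Ψ Ψ' τ εIso (isNat_ε hP Ψ Ψ' τ)
  | η X => exact isNat_η hP Ψ Ψ' τ X
  | η_inv X => exact isNat_inv hP Ψ Ψ' τ (ηIso X) (isNat_η hP Ψ Ψ' τ X)

/-- the extension of `τ` -/
noncomputable def thetaNat [NatTrans.IsMonoidal τ] : Ψ ⟶ Ψ' where
  app X := θ X
  naturality := by
    rintro X Y ⟨f⟩
    exact isNat_mk hP Ψ Ψ' τ f

lemma thetaNat_app [NatTrans.IsMonoidal τ] (X : PObj A) :
    (thetaNat hP Ψ Ψ' τ).app X = θ X := rfl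

instance thetaNat_isMonoidal [NatTrans.IsMonoidal τ] :
    NatTrans.IsMonoidal (thetaNat hP Ψ Ψ' τ) where
  unit := ε_theta hP Ψ Ψ' τ
  tensor X Y := μ_theta hP Ψ Ψ' τ X Y

lemma whiskerLeft_thetaNat [NatTrans.IsMonoidal τ] :
    Functor.whiskerLeft (incl A) (thetaNat hP Ψ Ψ' τ) = τ := by
  ext a
  rfl

section Unique

variable (θ' : Ψ ⟶ Ψ') [NatTrans.IsMonoidal θ']

lemma app_unit_of_isMonoidal : θ'.app (𝟙_ (PObj A)) = εInv Ψ ≫ ε Ψ' := by
  rw [← NatTrans.IsMonoidal.unit (τ := θ'), εInv_ε_assoc]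

lemma app_tensor_of_isMonoidal (X Y : PObj A) :
    θ'.app (X ⊗ Y) = μInv Ψ X Y ≫ (θ'.app X ⊗ₘ θ'.app Y) ≫ μ Ψ' X Y := by
  rw [← NatTrans.IsMonoidal.tensor (τ := θ'), μInv_μ_assoc]

lemma app_tensor_inv_of_isMonoidal (X : PObj A) :
    θ'.app X ▷ Ψ.obj X.inv ≫ Ψ'.obj X ◁ θ'.app X.inv = kappa Ψ Ψ' X := by
  have h1 : θ'.app (X ⊗ X.inv) =
      Ψ.map (ηIso X).inv ≫ θ'.app (𝟙_ (PObj A)) ≫ Ψ'.map (ηIso X).hom := by
    rw [← θ'.naturality (ηIso X).hom, ← Functor.map_comp_assoc, Iso.inv_hom_id,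
      CategoryTheory.Functor.map_id, Category.id_comp]
  have h2 := NatTrans.IsMonoidal.tensor (τ := θ') X X.inv
  rw [h1, app_unit_of_isMonoidal, MonoidalCategory.tensorHom_def] at h2
  unfold kappa
  have h3 := congrArg (fun m => m ≫ μInv Ψ' X X.inv) h2
  simp only [Category.assoc, μ_μInv, Category.comp_id] at h3
  rw [← h3]
  simp only [Category.assoc]

lemma app_eq_theta (h : Functor.whiskerLeft (incl A) θ' = τ) (X : PObj A) :
    θ'.app X = θ X := by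
  induction X with
  | of a =>
    rw [← h]
    rfl
  | unit => exact app_unit_of_isMonoidal Ψ Ψ' θ'
  | tensor X Y hX hY =>
    have := app_tensor_of_isMonoidal Ψ Ψ' θ' X Y
    rw [hX, hY] at this
    exact this
  | inv X hX =>
    refine invComp_unique hP Ψ Ψ' X (θ X) (θ'.app X.inv) ?_
    rw [← hX]
    exact app_tensor_inv_of_isMonoidal Ψ Ψ' θ' X

lemma eq_thetaNat [NatTrans.IsMonoidal τ] (h : Functor.whiskerLeft (incl A) θ' = τ) :
    θ' = thetaNat hP Ψ Ψ' τ := by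
  ext X
  exact app_eq_theta hP Ψ Ψ' τ θ' h X

end Unique

end Groth.Agent.Helper6.Pic
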